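import Cfsg.Agent.H21.PG.Types

/-!
# The chain lemmas of block G of S4884 (helper394)

`chainT`, `chainZ`, `chainD`: the targets `ChainT`, `ChainZ`, `ChainD` of `H21.PG.Types`.
-/

set_option autoImplicit false
set_option linter.unusedSectionVars false
set_option linter.style.haveILetI false

namespace Cfsg.Agent.H394.PG

open Cfsg.Agent.TitsThree.Siegel Module Submodule Cfsg.Agent.H439.CC Cfsg.Agent.H21.PG

universe u v

theorem sb_of_map {F : Type*} [Field F] {V : Type*} [AddCommGroup V] [Module F V] {x : V ≃ₗ[F] V} {W : Submodule F V}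
    (h : W.map (x : V →ₗ[F] V) = W) : Sb x W := fun v hv => by
  rw [← h]
  exact mem_map_of_mem hv

theorem chainT : ChainT.{u, v} := by
  intro F _ _ V _ _ _ q _ Adm X hq ds
  induction ds with
  | nil =>
    intro A _ _ _ hA hs
    exact ⟨A, le_rfl, hA, hs, by simp, fun _ => ∅, fun x _ _ => ⟨by simp, by simp⟩, fun x _ y _ _ _ _ => by simp⟩
  | cons k ds ih =>
    rintro A ⟨B, hAB, hB, hsB, hfB, hprim, hPF⟩ hpos hnd hA hs
    obtain ⟨hk, hnd'⟩ := List.nodup_cons.1 hnd
    obtain ⟨W, hBW, hW, hsW, hfW, T, hT1, hT2⟩ := ih B hPF (fun k' h' => hpos k' (List.mem_cons_of_mem _ h')) hnd' hB hsB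
    classical
    have hk0 : 0 < k := hpos k List.mem_cons_self
    -- the increment
    have hinc : ∀ x ∈ X, x ^ q = 1 → (∀ v ∈ B, Nm q x v ∈ A) →
        finrank F (B ⊓ Rg x : Submodule F V) = finrank F (A ⊓ Rg x : Submodule F V) + k := by
      intro x hx hxq h
      have h1 := finrank_of_Nm hxq hq (sb_of_map (hs x hx)) (sb_of_map (hsB x hx)) hAB.le h
      omega
    have hnT : ∀ x ∈ X, x ^ q = 1 → k ∉ T x := fun x hx hxq h => hk ((hT1 x hx hxq).1 k h).1
    refine ⟨W, hAB.le.trans hBW, hW, hsW, ?_, fun x => if ∀ v ∈ B, Nm q x v ∈ A then insert k (T x) else T x, ?_, ?_⟩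
    · rw [hfW, hfB, List.sum_cons, add_assoc]
    · intro x hx hxq
      obtain ⟨h1, h2⟩ := hT1 x hx hxq
      by_cases h : ∀ v ∈ B, Nm q x v ∈ A
      · simp only [if_pos h]
        constructor
        · intro k' hk'
          rcases Finset.mem_insert.1 hk' with rfl | h3
          · refine ⟨List.mem_cons_self, ?_⟩
            have h4 := dvd_inf hxq hq (sb_of_map (hs x hx))
            have h5 := dvd_inf hxq hq (sb_of_map (hsB x hx))
            rw [hinc x hx hxq h] at h5
            exact (Nat.dvd_add_right h4).1 h5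
          · exact ⟨List.mem_cons_of_mem _ (h1 k' h3).1, (h1 k' h3).2⟩
        · rw [h2, hinc x hx hxq h, Finset.sum_insert (hnT x hx hxq), add_assoc]
      · simp only [if_neg h]
        refine ⟨fun k' hk' => ⟨List.mem_cons_of_mem _ (h1 k' hk').1, (h1 k' hk').2⟩, ?_⟩
        rw [h2]
        rcases prim_cases hxq hq (sb_of_map (hs x hx)) (sb_of_map (hsB x hx)) hAB.le (hprim x hx) with h3 | h3
        · rw [h3]
        · exact absurd h3 h
    · intro x hx y hy hxq hyq hxy
      have h0 := hT2 x hx y hy hxq hyq hxy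
      by_cases h : ∀ v ∈ B, Nm q x v ∈ A <;> by_cases h' : ∀ v ∈ B, Nm q y v ∈ A
      · exfalso
        have h1 := hinc x hx hxq h
        have h2 : B ⊓ Rg x ≤ A ⊓ Rg x := by
          rintro v ⟨hv, hvR⟩
          refine ⟨?_, hvR⟩
          have h3 := h' v hv
          rw [Nm_fix (mem_Cg.1 (hxy hvR))] at h3
          have h6 : v = (q : F)⁻¹ • ((q : F) • v) := by rw [smul_smul, inv_mul_cancel₀ hq, one_smul]
          rw [h6]
          exact smul_mem _ _ h3
        have h3 := Submodule.finrank_mono h2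
        omega
      · simp only [if_pos h, if_neg h']
        exact Finset.disjoint_insert_left.2 ⟨hnT y hy hyq, h0⟩
      · simp only [if_neg h, if_pos h']
        exact Finset.disjoint_insert_right.2 ⟨hnT x hx hxq, h0⟩
      · simp only [if_neg h, if_neg h']
        exact h0

theorem dig_pos (m : ℕ) : ∀ k ∈ dig m, 0 < k := by
  intro k hk
  obtain ⟨i, -, rfl⟩ := List.mem_map.1 hk
  exact Nat.two_pow_pos i

theorem dig_nodup (m : ℕ) : (dig m).Nodup := by
  refine List.Nodup.map (Nat.pow_right_injective (le_refl 2)) ?_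
  exact (Nat.bitIndices_sorted (n := m)).nodup

theorem chainZ : ChainZ.{u, v} := by
  intro F _ _ V _ _ _ q _ Adm X m hq hd h0 hPF
  obtain ⟨W, -, hW, hs, hf, T, hT1, -⟩ := chainT F V q Adm X hq (dig m) ⊥ hPF (dig_pos m) (dig_nodup m) h0
    fun _ _ => Submodule.map_bot _
  refine ⟨W, hW, hs, ?_, fun x hx hxq => ?_⟩
  · rw [hf, finrank_bot, zero_add]
    exact Nat.sum_map_two_pow_bitIndices m
  · obtain ⟨h1, h2⟩ := hT1 x hx hxq
    have h3 : T x = ∅ := by
      rw [Finset.eq_empty_iff_forall_notMem]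
      intro k hk
      obtain ⟨h4, h5⟩ := h1 k hk
      obtain ⟨i, -, rfl⟩ := List.mem_map.1 h4
      obtain ⟨a, -, ha⟩ := (Nat.dvd_prime_pow Nat.prime_two).1 h5
      exact hd ⟨a, ha⟩
    rw [h3, Finset.sum_empty, add_zero, bot_inf_eq, finrank_bot] at h2
    exact Submodule.finrank_eq_zero.1 h2

theorem chainD : ChainD.{u, v} := by
  intro F _ _ V _ _ _ q _ Adm X m a hq h0 hPF
  obtain ⟨W, -, hW, hs, hf, T, hT1, hT2⟩ := chainT F V q Adm X hq (dig m) ⊥ hPF (dig_pos m) (dig_nodup m) h0
    fun _ _ => Submodule.map_bot _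
  have key : ∀ x ∈ X, x ^ q = 1 → finrank F (W ⊓ Rg x : Submodule F V) = 2 ^ a → 2 ^ a ∈ T x := by
    intro x hx hxq hfx
    classical
    obtain ⟨h1, h2⟩ := hT1 x hx hxq
    rw [bot_inf_eq, finrank_bot, zero_add, hfx] at h2
    -- the exponents
    let S : Finset ℕ := (T x).image Nat.log2
    have hlog : ∀ k ∈ T x, 2 ^ Nat.log2 k = k := by
      intro k hk
      obtain ⟨i, -, rfl⟩ := List.mem_map.1 (h1 k hk).1
      rw [Nat.log2_two_pow]
    have hS : ∑ i ∈ S, 2 ^ i = 2 ^ a := by
      rw [h2, Finset.sum_image]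
      · exact Finset.sum_congr rfl hlog
      · intro k hk k' hk' hkk
        rw [← hlog k hk, ← hlog k' hk', hkk]
    have hS1 : S = {a} := by
      apply Finset.geomSum_injective (n := 2) le_rfl
      simp only [Finset.sum_singleton]
      exact hS
    have h4 : a ∈ S := by rw [hS1]; exact Finset.mem_singleton_self a
    obtain ⟨k, hk, hka⟩ := Finset.mem_image.1 h4
    rw [← hka, hlog k hk]
    exact hk
  refine ⟨W, hW, hs, ?_, fun x hx y hy hxq hyq hxy hfx hfy => ?_⟩
  · rw [hf, finrank_bot, zero_add]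
    exact Nat.sum_map_two_pow_bitIndices m
  · exact Finset.disjoint_left.1 (hT2 x hx y hy hxq hyq hxy) (key x hx hxq hfx) (key y hy hyq hfy)

end Cfsg.Agent.H394.PG
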